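import Groth.Prelude.Def_CGrpSh2
import Groth.Agent.CGrpSh.K731.Full
import Groth.Agent.Sga3.H786.HullFG
import Groth.Agent.Sga3B.RG.BrDiag
import Mathlib.RingTheory.HopfAlgebra.GroupLike
import Mathlib.GroupTheory.Finiteness

/-!
# The character group of an affine commutative group scheme of finite type is finitely generated

* `finiteType_of_bialgHom`: a Hopf algebra which embeds in a finitely generated commutative Hopf
  algebra is finitely generated;
* `fg_groupLike`: the group of group-like elements of a finitely generated commutative Hopf algebra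
  is finitely generated;
* `fg_characters`: the group `Hom(G, Gm)` of an affine commutative group scheme of finite type over
  a field is finitely generated.
-/

set_option autoImplicit false
universe u
open CategoryTheory MonoidalCategory CartesianMonoidalCategory MonObj GrpObj AlgebraicGeometry Limits
open TensorProduct WithConv

namespace Groth.Agent.TateLoc.K798.CharFG

open Groth.Agent.Books.AffBridge Groth.Agent.Books.AffBridge2 Groth.Agent.Sga3B
  Groth.Agent.Sga3B.RG.BrDiag Groth.Agent.Sga3.H786

variable {k : Type u} [Field k]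

/-- A Hopf algebra which embeds in a finitely generated commutative Hopf algebra over a field is
finitely generated. -/
theorem finiteType_of_bialgHom {A B : Type u} [CommRing A] [HopfAlgebra k A] [CommRing B]
    [HopfAlgebra k B] [Algebra.FiniteType k A] (φ : B →ₐc[k] A) (hφ : Function.Injective φ) :
    Algebra.FiniteType k B := by
  have h1 : LocallyOfFiniteType (SpecOver k A).hom :=
    (locallyOfFiniteType_specOver_iff k A).2 inferInstance
  have h2 : QuasiCompact (SpecOver k A).hom := by
    change QuasiCompact (Spec.map _)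
    infer_instance
  have h3 : IsMonHom (specMap k (φ : B →ₐ[k] A)) := isMonHom_specMap k φ
  exact HullFG.finiteType_of_injective k (SpecOver k A) B (specMap k (φ : B →ₐ[k] A))
    (HullFG.appTop_specMap_injective k _ hφ)

/-- The group-like elements of a finitely generated commutative Hopf algebra over a field form a
finitely generated group. -/
theorem fg_groupLike {A : Type u} [CommRing A] [HopfAlgebra k A] [Algebra.FiniteType k A] :
    Group.FG (GroupLike k A) := by
  have h1 : Function.Injective (MonoidAlgebra.liftGroupLikeBialgHom (R := k) (A := A)) := by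
    have h2 := linearIndep_groupLikeVal (R := k) (A := A)
    intro x y hxy
    have h3 : ∀ z : MonoidAlgebra k (GroupLike k A),
        MonoidAlgebra.liftGroupLikeBialgHom (R := k) (A := A) z =
          Finsupp.linearCombination k (GroupLike.val (R := k) (A := A)) z.coeff := by
      intro z
      change MonoidAlgebra.lift k A (GroupLike k A) _ z = _
      rw [MonoidAlgebra.lift_apply]
      rfl
    rw [h3, h3] at hxy
    exact MonoidAlgebra.coeff_injective (h2 hxy)
  have h2 : Algebra.FiniteType k (MonoidAlgebra k (GroupLike k A)) :=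
    finiteType_of_bialgHom _ h1
  exact MonoidAlgebra.finiteType_iff_group_fg.1 h2

section Characters

variable (G : Over (Spec (CommRingCat.of k))) [GrpObj G]

/-- The group-like element attached to a bialgebra map out of the group algebra of `ℤ`. -/
noncomputable def glOf {A : Type u} [CommRing A] [HopfAlgebra k A]
    (π : MonoidAlgebra k (Multiplicative ℤ) →ₐc[k] A) : GroupLike k A :=
  ⟨π (MonoidAlgebra.single (Multiplicative.ofAdd 1) 1),
    (MonoidAlgebra.isGroupLikeElem_single_one _).map π⟩

theorem glOf_injective {A : Type u} [CommRing A] [HopfAlgebra k A] :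
    Function.Injective (glOf (k := k) (A := A)) := by
  intro π π' h
  have h1 : π (MonoidAlgebra.single (Multiplicative.ofAdd 1) 1) =
      π' (MonoidAlgebra.single (Multiplicative.ofAdd 1) 1) := congrArg GroupLike.val h
  refine MonoidAlgebra.bialgHom_ext' ?_ (by ext)
  refine MonoidHom.ext_mint ?_
  exact h1

/-- Characters of an affine group scheme as bialgebra maps. -/
theorem exists_bialgHom {A : Type u} [CommRing A] [HopfAlgebra k A] (e : G ≅ SpecOver k A)
    [IsMonHom e.hom] (χ : G ⟶ Red.Gm (Spec (CommRingCat.of k))) [IsMonHom χ] :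
    ∃ π : MonoidAlgebra k (Multiplicative ℤ) →ₐc[k] A,
      specMap k (π : MonoidAlgebra k (Multiplicative ℤ) →ₐ[k] A) ≫ diagTo k ℤ = e.inv ≫ χ := by
  have h1 : IsMonHom e.inv := inferInstance
  have h2 : IsMonHom (asIso (diagTo k ℤ)).hom := isMonHom_diagTo k ℤ
  have h3 : IsMonHom (asIso (diagTo k ℤ)).inv := inferInstance
  obtain ⟨π, hπ⟩ := exists_bialgHom_of_isMonHom k (e.inv ≫ χ ≫ (asIso (diagTo k ℤ)).inv)
  refine ⟨π, ?_⟩
  rw [hπ, Category.assoc, Category.assoc]
  have h4 : (asIso (diagTo k ℤ)).inv ≫ diagTo k ℤ = 𝟙 _ := (asIso (diagTo k ℤ)).inv_hom_id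
  rw [h4, Category.comp_id]

variable {G} in
theorem specMap_diagTo_injective {A : Type u} [CommRing A] [HopfAlgebra k A]
    {x y : MonoidAlgebra k (Multiplicative ℤ) →ₐ[k] A}
    (h : specMap k x ≫ diagTo k ℤ = specMap k y ≫ diagTo k ℤ) : x = y := by
  rw [cancel_mono] at h
  exact specMap_injective k h

/-- **Characters of an affine commutative group scheme of finite type over a field form a finitely
generated group.** -/
theorem fg_characters (K : Precoverage Scheme.{u})
    [(QuotSh.J K (Spec (CommRingCat.of k))).Subcanonical] [IsCommMonObj G] [IsAffine G.left]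
    [LocallyOfFiniteType G.hom] :
    AddGroup.FG (CGrpSh.pts K G ⟶ CGrpSh2.Gm K (Spec (CommRingCat.of k))) := by
  obtain ⟨A, _, _, e, he⟩ := exists_hopf k G
  have hft : Algebra.FiniteType k A := by
    rw [← locallyOfFiniteType_specOver_iff, hom_eq_of_iso e.symm]
    have : IsIso e.symm.hom.left := inferInstanceAs (IsIso ((Over.forget _).map e.inv))
    infer_instance
  have hfg : Group.FG (GroupLike k A) := fg_groupLike
  choose π hπ using fun φ : CGrpSh.pts K G ⟶ CGrpSh2.Gm K (Spec (CommRingCat.of k)) =>
    exists_bialgHom G e (K731.Full.hom φ)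
  have hadd : ∀ φ ψ : CGrpSh.pts K G ⟶ CGrpSh2.Gm K (Spec (CommRingCat.of k)),
      K731.Full.hom (φ + ψ) = K731.Full.hom φ * K731.Full.hom ψ := by
    intro φ ψ
    have h1 : (φ + ψ).hom.app (Opposite.op G) = φ.hom.app (Opposite.op G) +
      ψ.hom.app (Opposite.op G) := rfl
    have h2 := ConcreteCategory.congr_hom h1 (ULift.up (Additive.ofMul (𝟙 G)))
    exact congrArg (fun z => z.down.toMul) h2
  let F : (CGrpSh.pts K G ⟶ CGrpSh2.Gm K (Spec (CommRingCat.of k))) →+
      Additive (GroupLike k A) := AddMonoidHom.mk' (fun φ => Additive.ofMul (glOf (π φ))) (by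
    intro φ ψ
    change Additive.ofMul _ = Additive.ofMul (_ * _)
    congr 1
    ext1
    have h1 := hπ (φ + ψ)
    rw [hadd, MonObj.comp_mul, ← hπ φ, ← hπ ψ, ← MonObj.mul_comp,
      ← specMap_mul k (toConv (π φ : MonoidAlgebra k (Multiplicative ℤ) →ₐ[k] A))
        (toConv (π ψ : MonoidAlgebra k (Multiplicative ℤ) →ₐ[k] A))] at h1
    have h2 := specMap_diagTo_injective h1
    have h3 := DFunLike.congr_fun h2 (MonoidAlgebra.single (Multiplicative.ofAdd 1) 1)
    refine h3.trans ?_
    exact MonoidAlgebra.convMul_algHom_single_one _ _ _)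
  have hF : Function.Injective F := by
    intro φ ψ h
    have h1 : π φ = π ψ := glOf_injective (congrArg Additive.toMul h)
    have h2 : e.inv ≫ K731.Full.hom φ = e.inv ≫ K731.Full.hom ψ := by
      rw [← hπ φ, ← hπ ψ, h1]
    rw [cancel_epi] at h2
    rw [← K731.Full.ptsMap_hom φ, ← K731.Full.ptsMap_hom ψ]
    congr 1
  have hfin : Module.Finite ℤ (Additive (GroupLike k A)) := by
    have : AddGroup.FG (Additive (GroupLike k A)) := inferInstance
    exact Module.Finite.iff_addGroup_fg.2 this
  have hfin2 := Module.Finite.of_injective F.toIntLinearMap hF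
  exact Module.Finite.iff_addGroup_fg.1 hfin2

end Characters

end Groth.Agent.TateLoc.K798.CharFG
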